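import Groth.Agent.GeomQuotLib.Descent
import Groth.Agent.SchDesc.TorsorDesc
import Groth.Agent.FpqcDesc.Basic
import Groth.Agent.ASp.Fpqc
import Groth.Prelude.Def_W4bk4git07Quot
import Groth.Prelude.Def_NonAbH2
/-!
Torsors are geometric quotients.
-/

set_option autoImplicit false
set_option backward.isDefEq.respectTransparency false
set_option backward.isDefEq.respectTransparency.types false

universe u

open CategoryTheory CategoryTheory.Limits MonoidalCategory CartesianMonoidalCategory MonObj AlgebraicGeometry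

namespace Groth.Agent.GitTorsor

theorem bijective_appLE {X Y : Scheme.{u}} (g : X ⟶ Y) [IsOpenImmersion g] {U : Y.Opens} (hU : U ≤ g.opensRange)
    {V : X.Opens} (hV : V = g ⁻¹ᵁ U) : Function.Bijective (g.appLE U V hV.le) := by
  subst hV
  haveI := g.isIso_app U hU
  rw [← Scheme.Hom.app_eq_appLE]
  exact ConcreteCategory.bijective_of_isIso (g.app U)

theorem appTop_eq {X Y : Scheme.{u}} (f : X ⟶ Y) : f.appTop = f.appLE ⊤ ⊤ le_rfl := Scheme.Hom.app_eq_appLE f

theorem appLE_congr' {X Y : Scheme.{u}} {f g : X ⟶ Y} (h : f = g) {U : Y.Opens} {V : X.Opens}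
    (e : V ≤ f ⁻¹ᵁ U) (e' : V ≤ g ⁻¹ᵁ U) : f.appLE U V e = g.appLE U V e' := by
  subst h; rfl


variable {S : Scheme.{u}} {G X Y : Over S} [GrpObj G]

/-- A flat surjective quasi-compact principal bundle is a geometric quotient. -/
theorem isGeomQuot_of_principal (a : AlgGrp.Action G X) (φ : X ⟶ Y) (hinv : GIT.IsInvariant a φ) [Flat φ.left]
    [Surjective φ.left] [QuasiCompact φ.left] [IsIso (GIT.PsiY a φ hinv)] : GIT.IsGeomQuot a φ := by
  have hsubm : GIT.IsUnivSubmersive φ.left := fun X₁ Y₁ i₁ i₂ f hf => by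
    haveI : Flat f := MorphismProperty.of_isPullback hf.flip ‹Flat φ.left›
    haveI : Surjective f := MorphismProperty.of_isPullback hf.flip ‹Surjective φ.left›
    haveI : QuasiCompact f := MorphismProperty.of_isPullback hf.flip ‹QuasiCompact φ.left›
    exact Flat.isQuotientMap_of_surjective f
  refine ⟨hinv, φ.left.surjective, (GIT.PsiY a φ hinv).surjective, hsubm, fun U => ?_⟩
  let O := φ.left ⁻¹ᵁ U
  let φU := φ.left ∣_ U
  haveI : Surjective φU := IsZariskiLocalAtTarget.restrict ‹Surjective φ.left› U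
  haveI : QuasiCompact φU := IsZariskiLocalAtTarget.restrict ‹QuasiCompact φ.left› U
  haveI : EffectiveEpi φU := inferInstance
  obtain ⟨hinj, hdesc⟩ := GeomQuotLib.app_descent φU
  have hO : Function.Bijective (O.ι.appLE O ⊤ (Scheme.Opens.ι_preimage_self O).ge) :=
    bijective_appLE O.ι (by rw [Scheme.Opens.opensRange_ι]) (Scheme.Opens.ι_preimage_self O).symm
  have hU : Function.Bijective (U.ι.appLE U ⊤ (Scheme.Opens.ι_preimage_self U).ge) :=
    bijective_appLE U.ι (by rw [Scheme.Opens.opensRange_ι]) (Scheme.Opens.ι_preimage_self U).symm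
  have hcomm : ∀ s, φU.appTop (U.ι.appLE U ⊤ (Scheme.Opens.ι_preimage_self U).ge s) = O.ι.appLE O ⊤ (Scheme.Opens.ι_preimage_self O).ge (φ.left.app U s) := by
    intro s
    rw [appTop_eq, Scheme.Hom.app_eq_appLE, ← CommRingCat.comp_apply,
      ← CommRingCat.comp_apply, Scheme.Hom.appLE_comp_appLE, Scheme.Hom.appLE_comp_appLE]
    exact congr($(appLE_congr' (morphismRestrict_ι φ.left U) _ _) s)
  refine ⟨fun s₁ s₂ hs => hU.1 (hinj (by rw [hcomm, hcomm, hs])), ?_⟩
  ext f
  constructor
  · rintro ⟨s, rfl⟩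
    show a.act.left.appLE O _ _ (φ.left.app U s) = (snd G X).left.appLE O _ _ (φ.left.app U s)
    rw [Scheme.Hom.app_eq_appLE, ← CommRingCat.comp_apply, ← CommRingCat.comp_apply, Scheme.Hom.appLE_comp_appLE,
      Scheme.Hom.appLE_comp_appLE]
    exact congr($(appLE_congr' hinv.left _ _) s)
  · intro (hf : GIT.IsInvSection a φ U f)
    obtain ⟨s, hs⟩ := hdesc (O.ι.appLE O ⊤ (Scheme.Opens.ι_preimage_self O).ge f) (fun Z g₁ g₂ he => by
      let l : Z ⟶ pullback φ.left φ.left := pullback.lift (g₁ ≫ O.ι) (g₂ ≫ O.ι) (by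
        rw [Category.assoc, Category.assoc, ← morphismRestrict_ι, reassoc_of% he])
      let w : Z ⟶ (G ⊗ X).left := l ≫ inv (GIT.PsiY a φ hinv)
      have h1 : w ≫ a.act.left = g₁ ≫ O.ι := by
        rw [show a.act.left = GIT.PsiY a φ hinv ≫ pullback.fst _ _ from (pullback.lift_fst _ _ _).symm, Category.assoc,
          IsIso.inv_hom_id_assoc, pullback.lift_fst]
      have h2 : w ≫ (snd G X).left = g₂ ≫ O.ι := by
        rw [show (snd G X).left = GIT.PsiY a φ hinv ≫ pullback.snd _ _ from (pullback.lift_snd _ _ _).symm, Category.assoc,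
          IsIso.inv_hom_id_assoc, pullback.lift_snd]
      let P := a.act.left ⁻¹ᵁ O ⊓ (snd G X).left ⁻¹ᵁ O
      have hw : (⊤ : Z.Opens) ≤ w ⁻¹ᵁ P := by
        intro z _
        refine ⟨?_, ?_⟩
        · show a.act.left (w z) ∈ O
          rw [← Scheme.Hom.comp_apply, h1]; exact (g₁ z).2
        · show (snd G X).left (w z) ∈ O
          rw [← Scheme.Hom.comp_apply, h2]; exact (g₂ z).2
      have e1 : g₁.appTop (O.ι.appLE O ⊤ (Scheme.Opens.ι_preimage_self O).ge f) = w.appLE P ⊤ hw (a.act.left.appLE O P inf_le_left f) := by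
        rw [appTop_eq, ← CommRingCat.comp_apply, ← CommRingCat.comp_apply,
          Scheme.Hom.appLE_comp_appLE, Scheme.Hom.appLE_comp_appLE]
        exact congr($(appLE_congr' h1.symm _ _) f)
      have e2 : g₂.appTop (O.ι.appLE O ⊤ (Scheme.Opens.ι_preimage_self O).ge f) = w.appLE P ⊤ hw ((snd G X).left.appLE O P inf_le_right f) := by
        rw [appTop_eq, ← CommRingCat.comp_apply, ← CommRingCat.comp_apply,
          Scheme.Hom.appLE_comp_appLE, Scheme.Hom.appLE_comp_appLE]
        exact congr($(appLE_congr' h2.symm _ _) f)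
      rw [e1, e2]
      exact congrArg _ hf)
    obtain ⟨s, rfl⟩ := hU.2 s
    exact ⟨s, hO.1 (by rw [← hs, hcomm])⟩


/-- An fpqc torsor under an affine flat surjective group is an affine geometric quotient. -/
theorem isAffineHom_and_isGeomQuot (a : AlgGrp.Action G X) (φ : X ⟶ Y) [IsAffineHom G.hom] [Flat G.hom]
    (hcart : IsPullback a.act (snd G X) φ φ)
    (hloc : NonAbH1.IsLocallyTrivialFor Scheme.fpqcPrecoverage (Over.mk φ.left : Over Y.left)) :
    IsAffineHom φ.left ∧ GIT.IsGeomQuot a φ := by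
  obtain ⟨R, hR, hsec⟩ := hloc
  obtain ⟨I₀, Z, f, rfl⟩ := R.exists_eq_ofArrows
  let E0 : PreZeroHypercover Y.left := { I₀ := I₀, X := Z, f := f }
  obtain ⟨hq0, hfl⟩ := (HTopV.mem_fpqc_iff E0).mp hR
  haveI := hq0
  let E := QuasiCompactCover.ulift E0
  have hE : E.presieve₀ ∈ Scheme.fpqcPrecoverage Y.left :=
    (HTopV.mem_fpqc_iff E).mpr ⟨inferInstanceAs (QuasiCompactCover (QuasiCompactCover.ulift E0)), fun i => hfl _⟩
  haveI : SchDesc.IsFpqc (Sigma.desc E.f) := SchDesc.isFpqc_sigmaDesc (X := E.X) (f := E.f) hE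
  have hs : ∀ i : E.I₀, ∃ s : E.X i ⟶ X.left, s ≫ φ.left = E.f i := fun i => hsec _ (Presieve.ofArrows.mk _)
  choose s hs using hs
  let p := Sigma.desc E.f
  let σ : (∐ E.X) ⟶ X.left := Sigma.desc s
  have hσ : σ ≫ φ.left = p := Sigma.hom_ext _ _ fun i => by simp [σ, p, hs]
  have hl : IsPullback a.act.left (snd G X).left φ.left φ.left := hcart.map (Over.forget S)
  have htriv : ∀ (P : MorphismProperty Scheme.{u}) [P.IsStableUnderBaseChange],
      P G.hom → P (pullback.snd φ.left p) := fun P _ hP => by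
    have h1 : P (snd G X).left := MorphismProperty.pullback_snd G.hom X.hom hP
    let fst' := hl.lift (pullback.fst φ.left p) (pullback.snd φ.left p ≫ σ) (by
      rw [Category.assoc, hσ, pullback.condition])
    have sq : IsPullback fst' (pullback.snd φ.left p) (snd G X).left σ :=
      IsPullback.of_right (t := hl) (by
        rw [hl.lift_fst, hσ]; exact IsPullback.of_hasPullback φ.left p) (hl.lift_snd _ _ _)
    exact MorphismProperty.of_isPullback sq h1
  haveI : IsAffineHom φ.left :=
    TorsorDesc.prop_of_isFpqc @IsAffineHom FpqcDesc.isAffineHom_descends φ.left p (htriv _ inferInstance)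
  haveI : Flat φ.left := TorsorDesc.prop_of_isFpqc @Flat inferInstance φ.left p (htriv _ inferInstance)
  haveI : Surjective φ.left := ⟨fun y => by
    obtain ⟨t, rfl⟩ := p.surjective y
    exact ⟨σ t, by rw [← Scheme.Hom.comp_apply, hσ]⟩⟩
  haveI : IsIso (GIT.PsiY a φ hcart.w) := by
    rw [show GIT.PsiY a φ hcart.w = hl.isoPullback.hom from
      pullback.hom_ext (by simp [GIT.PsiY]) (by simp [GIT.PsiY])]
    infer_instance
  exact ⟨inferInstance, isGeomQuot_of_principal a φ hcart.w⟩

end Groth.Agent.GitTorsor
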