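import Groth.Agent.S2913
import Groth.Prelude.Def_W4bk4git07Quot
import Mathlib.AlgebraicGeometry.PullbackCarrier
import Mathlib.AlgebraicGeometry.Morphisms.Separated
/-!
First properties of geometric quotients.
-/

set_option autoImplicit false
set_option backward.isDefEq.respectTransparency false
set_option backward.isDefEq.respectTransparency.types false

universe u

open CategoryTheory MonoidalCategory CartesianMonoidalCategory MonObj AlgebraicGeometry Topology
open CategoryTheory.Limits (pullback)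

namespace Groth.Agent.GitQuot

variable {S : Scheme.{u}} {G X Y : Over S} [GrpObj G]

theorem appLE_congr {A B : Scheme.{u}} {f g : A ⟶ B} (h : f = g) {U : B.Opens} {V : A.Opens}
    (e : V ≤ f ⁻¹ᵁ U) (e' : V ≤ g ⁻¹ᵁ U) : f.appLE U V e = g.appLE U V e' := by
  subst h; rfl

theorem epi_restrict {A B : Scheme.{u}} (f : A ⟶ B) [Surjective f] (h : ∀ U, Function.Injective (f.app U))
    (U : B.Opens) : Epi (f ∣_ U) := by
  haveI : Surjective (f ∣_ U) := IsZariskiLocalAtTarget.restrict ‹Surjective f› U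
  refine S2913.result _ fun V => ?_
  rw [morphismRestrict_app]
  exact (ConcreteCategory.bijective_of_isIso
    (A.presheaf.map (eqToHom (image_morphismRestrict_preimage f U V)).op)).injective.comp (h _)

/-- A map with invariant functions is a categorical quotient once invariant maps factor locally on affines. -/
theorem isCatQuot_of_sections (a : AlgGrp.Action G X) (φ : X ⟶ Y) (hinv : GIT.IsInvariant a φ) [Surjective φ.left]
    (hsec : ∀ U : Y.left.Opens,
      Function.Injective (φ.left.app U) ∧ Set.range (φ.left.app U) = {f | GIT.IsInvSection a φ U f})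
    (hcov : ∀ (Z : Over S) (ψ : X ⟶ Z), GIT.IsInvariant a ψ → ∃ U : Z.left.affineOpens → Y.left.Opens,
      (∀ w, φ.left ⁻¹ᵁ U w ≤ ψ.left ⁻¹ᵁ w.1) ∧ ⨆ w, U w = ⊤) :
    GIT.IsCatQuot a φ := by
  haveI : Epi φ.left := S2913.result _ fun U => (hsec U).1
  refine ⟨hinv, fun Z ψ hψ => ?_⟩
  suffices hex : ∃ χ : Y.left ⟶ Z.left, φ.left ≫ χ = ψ.left by
    obtain ⟨χ, hχ⟩ := hex
    refine ⟨Over.homMk χ ((cancel_epi φ.left).1 (by rw [reassoc_of% hχ, Over.w, Over.w])),
      Over.OverMorphism.ext hχ, fun χ' hχ' => Over.OverMorphism.ext ?_⟩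
    exact (cancel_epi φ.left).1 ((congrArg CommaMorphism.left hχ').trans hχ.symm)
  obtain ⟨U, hle, hsup⟩ := hcov Z ψ hψ
  let W := Z.left.affineOpens
  have hloc : ∀ w : W, ∃ g : (U w).toScheme ⟶ Z.left,
      φ.left ∣_ U w ≫ g = (φ.left ⁻¹ᵁ U w).ι ≫ ψ.left := fun w => by
    obtain ⟨hinj, hrange⟩ := hsec (U w)
    let r := (φ.left.app (U w)).hom
    have hmem : ∀ t, ψ.left.appLE w.1 (φ.left ⁻¹ᵁ U w) (hle w) t ∈ r.range := fun t => by
      have hi : GIT.IsInvSection a φ (U w) (ψ.left.appLE w.1 (φ.left ⁻¹ᵁ U w) (hle w) t) := by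
        unfold GIT.IsInvSection
        rw [← CommRingCat.comp_apply, ← CommRingCat.comp_apply, Scheme.Hom.appLE_comp_appLE, Scheme.Hom.appLE_comp_appLE]
        exact congr($(appLE_congr hψ.left _ _) t)
      exact (Set.ext_iff.1 hrange _).2 hi
    let e := RingEquiv.ofBijective r.rangeRestrict
      ⟨fun x y hxy => hinj (congrArg Subtype.val hxy), r.rangeRestrict_surjective⟩
    let ρ : Γ(Z.left, w.1) ⟶ Γ(Y.left, U w) := CommRingCat.ofHom
      ((e.symm.toRingHom).comp ((ψ.left.appLE w.1 (φ.left ⁻¹ᵁ U w) (hle w)).hom.codRestrict r.range hmem))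
    have hρ : ρ ≫ φ.left.app (U w) = ψ.left.appLE w.1 (φ.left ⁻¹ᵁ U w) (hle w) := by
      ext t
      exact congrArg Subtype.val (e.apply_symm_apply ⟨_, hmem t⟩)
    refine ⟨(U w).toSpecΓ ≫ Spec.map ρ ≫ w.2.fromSpec, ?_⟩
    have h1 : φ.left ∣_ U w ≫ (U w).toSpecΓ = (φ.left ⁻¹ᵁ U w).toSpecΓ ≫ Spec.map (φ.left.app (U w)) := by
      rw [Scheme.Hom.app_eq_appLE, Scheme.Opens.toSpecΓ_SpecMap_appLE, Scheme.Hom.resLE_eq_morphismRestrict]
    rw [reassoc_of% h1, ← Spec.map_comp_assoc, hρ, Scheme.Opens.toSpecΓ_SpecMap_appLE_assoc,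
      IsAffineOpen.toSpecΓ_fromSpec, Scheme.Hom.resLE_comp_ι]
  choose g hg using hloc
  let 𝒰 := Y.left.openCoverOfIsOpenCover U hsup
  have hcomp : ∀ w w', pullback.fst (U w).ι (U w').ι ≫ g w = pullback.snd (U w).ι (U w').ι ≫ g w' := fun w w' => by
    let V := U w ⊓ U w'
    haveI := epi_restrict φ.left (fun U => (hsec U).1) V
    have key : Y.left.homOfLE (show V ≤ U w from inf_le_left) ≫ g w =
        Y.left.homOfLE (show V ≤ U w' from inf_le_right) ≫ g w' := by
      refine (cancel_epi (φ.left ∣_ V)).1 ?_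
      have hv : ∀ (v : W) (hv : V ≤ U v), φ.left ∣_ V ≫ Y.left.homOfLE hv ≫ g v = (φ.left ⁻¹ᵁ V).ι ≫ ψ.left := by
        intro v hv
        have : φ.left ∣_ V ≫ Y.left.homOfLE hv =
            X.left.homOfLE (show φ.left ⁻¹ᵁ V ≤ φ.left ⁻¹ᵁ U v from fun x hx => hv hx) ≫ φ.left ∣_ U v := by
          rw [← cancel_mono (U v).ι, Category.assoc, Category.assoc, Scheme.homOfLE_ι, morphismRestrict_ι,
            morphismRestrict_ι, Scheme.homOfLE_ι_assoc]
        rw [reassoc_of% this, hg, Scheme.homOfLE_ι_assoc]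
      rw [hv w inf_le_left, hv w' inf_le_right]
    haveI : IsIso (pullback.lift (Y.left.homOfLE (show V ≤ U w from inf_le_left))
        (Y.left.homOfLE (show V ≤ U w' from inf_le_right)) (by rw [Scheme.homOfLE_ι, Scheme.homOfLE_ι]) :
        V.toScheme ⟶ pullback (U w).ι (U w').ι) := by
      rw [show pullback.lift _ _ _ = (isPullback_opens_inf (U w) (U w')).isoPullback.hom from
        Limits.pullback.hom_ext (by rw [Limits.pullback.lift_fst, IsPullback.isoPullback_hom_fst])
          (by rw [Limits.pullback.lift_snd, IsPullback.isoPullback_hom_snd])]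
      infer_instance
    refine (cancel_epi (pullback.lift (Y.left.homOfLE (show V ≤ U w from inf_le_left))
        (Y.left.homOfLE (show V ≤ U w' from inf_le_right)) (by rw [Scheme.homOfLE_ι, Scheme.homOfLE_ι]) :
        V.toScheme ⟶ pullback (U w).ι (U w').ι)).1 ?_
    rw [Limits.pullback.lift_fst_assoc, Limits.pullback.lift_snd_assoc, key]
  refine ⟨𝒰.glueMorphisms g hcomp, ?_⟩
  refine Scheme.Cover.hom_ext (X.left.openCoverOfIsOpenCover (fun w => φ.left ⁻¹ᵁ U w) ?_) _ _ fun w => ?_
  · exact top_unique fun x _ => by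
      obtain ⟨w, hw⟩ := TopologicalSpace.Opens.mem_iSup.1 (hsup.ge (Set.mem_univ (φ.left x)))
      exact TopologicalSpace.Opens.mem_iSup.2 ⟨w, hw⟩
  · show (φ.left ⁻¹ᵁ U w).ι ≫ φ.left ≫ _ = _
    rw [← reassoc_of% (morphismRestrict_ι φ.left (U w))]
    exact (congrArg (_ ≫ ·) (𝒰.ι_glueMorphisms g hcomp w)).trans (hg w)

/-- A geometric quotient is a categorical quotient. -/
theorem isCatQuot_of_isGeomQuot (a : AlgGrp.Action G X) (φ : X ⟶ Y) (h : GIT.IsGeomQuot a φ) :
    GIT.IsCatQuot a φ := by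
  haveI : Surjective φ.left := ⟨h.surj⟩
  refine isCatQuot_of_sections a φ h.inv h.sections fun Z ψ hψ => ?_
  have hconst : Function.FactorsThrough ψ.left.base φ.left.base := by
    intro x₁ x₂ e
    obtain ⟨z, hz₁, hz₂⟩ := Scheme.Pullback.exists_preimage_pullback x₁ x₂ e
    obtain ⟨g, rfl⟩ := h.orbit z
    rw [← hz₁, ← hz₂, ← Scheme.Hom.comp_apply (GIT.PsiY a φ h.inv), ← Scheme.Hom.comp_apply (GIT.PsiY a φ h.inv),
      GIT.PsiY, Limits.pullback.lift_fst, Limits.pullback.lift_snd, ← Scheme.Hom.comp_apply,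
      ← Scheme.Hom.comp_apply, GIT.IsInvariant.left hψ]
  have hq : IsQuotientMap φ.left := h.subm _ _ _ (IsPullback.id_horiz φ.left).flip
  choose s hs using h.surj
  let χ₀ : ↥Y.left → ↥Z.left := fun y => ψ.left (s y)
  have hχ₀ : ∀ x, χ₀ (φ.left x) = ψ.left x := fun x => hconst (hs (φ.left x))
  have hcont : Continuous χ₀ := hq.continuous_iff.2 ((show χ₀ ∘ φ.left = ψ.left from funext hχ₀) ▸ ψ.left.continuous)
  let W := Z.left.affineOpens
  let U : W → Y.left.Opens := fun w => ⟨χ₀ ⁻¹' (w.1 : Set ↥Z.left), w.1.2.preimage hcont⟩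
  have hle : ∀ w, φ.left ⁻¹ᵁ U w ≤ ψ.left ⁻¹ᵁ w.1 := fun w x hx => by
    show ψ.left x ∈ w.1
    rw [← hχ₀]; exact hx
  have hsup : ⨆ w, U w = ⊤ := top_unique fun y _ => by
    obtain ⟨_, ⟨A, hA, rfl⟩, hyA, -⟩ :=
      Z.left.isBasis_affineOpens.exists_subset_of_mem_open (Set.mem_univ (χ₀ y)) isOpen_univ
    exact TopologicalSpace.Opens.mem_iSup.2 ⟨⟨A, hA⟩, hyA⟩
  exact ⟨U, hle, hsup⟩

theorem range_psi_id (a : AlgGrp.Action G X) (φ : X ⟶ Y) (h : GIT.IsGeomQuot a φ)
    (m : pullback X.hom X.hom ⟶ pullback Y.hom Y.hom)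
    (hm₁ : m ≫ pullback.fst _ _ = pullback.fst _ _ ≫ φ.left) (hm₂ : m ≫ pullback.snd _ _ = pullback.snd _ _ ≫ φ.left) :
    Set.range (GIT.psi a (𝟙 X)).left = m ⁻¹' Set.range (Limits.pullback.diagonal Y.hom) := by
  let j : pullback φ.left φ.left ⟶ pullback X.hom X.hom :=
    pullback.lift (pullback.fst _ _) (pullback.snd _ _) (by
      rw [← Over.w φ, Limits.pullback.condition_assoc])
  have e : (GIT.psi a (𝟙 X)).left = GIT.PsiY a φ h.inv ≫ j := by
    have e0 : GIT.psi a (𝟙 X) = lift a.act (snd G X) := by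
      rw [GIT.psi, MonoidalCategory.whiskerLeft_id, Category.id_comp]
    rw [e0]
    apply Limits.pullback.hom_ext
    · rw [show pullback.fst X.hom X.hom = (fst X X).left from rfl, ← Over.comp_left, lift_fst, Category.assoc,
        show j ≫ (fst X X).left = pullback.fst _ _ from Limits.pullback.lift_fst _ _ _]
      exact (Limits.pullback.lift_fst _ _ _).symm
    · rw [show pullback.snd X.hom X.hom = (snd X X).left from rfl, ← Over.comp_left, lift_snd, Category.assoc,
        show j ≫ (snd X X).left = pullback.snd _ _ from Limits.pullback.lift_snd _ _ _]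
      exact (Limits.pullback.lift_snd _ _ _).symm
  have hjm : j ≫ m = (pullback.fst φ.left φ.left ≫ φ.left) ≫ Limits.pullback.diagonal Y.hom := by
    apply Limits.pullback.hom_ext
    · simp [j, hm₁]
    · simp [j, hm₂, Limits.pullback.condition]
  let w : pullback m (Limits.pullback.diagonal Y.hom) ⟶ pullback φ.left φ.left :=
    pullback.lift (pullback.fst _ _ ≫ pullback.fst _ _) (pullback.fst _ _ ≫ pullback.snd _ _) (by
      rw [Category.assoc, Category.assoc, ← hm₁, ← hm₂, Limits.pullback.condition_assoc,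
        Limits.pullback.condition_assoc, Limits.pullback.diagonal_fst, Limits.pullback.diagonal_snd])
  have hw : w ≫ j = pullback.fst m (Limits.pullback.diagonal Y.hom) := by
    apply Limits.pullback.hom_ext <;> simp [w, j]
  rw [e, Scheme.Hom.comp_base, TopCat.coe_comp, Set.range_comp, Set.range_eq_univ.2 h.orbit, Set.image_univ,
    ← Scheme.Pullback.range_fst]
  apply subset_antisymm
  · rintro _ ⟨z, rfl⟩
    rw [Scheme.Pullback.range_fst]
    exact ⟨_, (congrArg (fun k => k z) hjm).symm⟩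
  · rintro _ ⟨z, rfl⟩
    exact ⟨w z, congrArg (fun k => k z) hw⟩

theorem isSeparated_iff_isClosed_psi (a : AlgGrp.Action G X) (φ : X ⟶ Y) (h : GIT.IsGeomQuot a φ) :
    IsSeparated Y.hom ↔ IsClosed (Set.range (GIT.psi a (𝟙 X)).left.base) := by
  let m₁ : pullback X.hom X.hom ⟶ pullback Y.hom X.hom :=
    pullback.map _ _ _ _ φ.left (𝟙 _) (𝟙 _) (by simp) (by simp)
  let m₂ : pullback Y.hom X.hom ⟶ pullback Y.hom Y.hom :=
    pullback.map _ _ _ _ (𝟙 _) φ.left (𝟙 _) (by simp) (by simp)
  have q₁ : IsPullback m₁ (pullback.fst _ _) (pullback.fst _ _) φ.left := by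
    refine IsPullback.of_right ?_ (Limits.pullback.lift_fst _ _ _) (IsPullback.of_hasPullback Y.hom X.hom).flip
    rw [show m₁ ≫ pullback.snd Y.hom X.hom = pullback.snd X.hom X.hom by simp [m₁], Over.w φ]
    exact (IsPullback.of_hasPullback X.hom X.hom).flip
  have q₂ : IsPullback m₂ (pullback.snd _ _) (pullback.snd _ _) φ.left := by
    refine IsPullback.of_right ?_ (Limits.pullback.lift_snd _ _ _) (IsPullback.of_hasPullback Y.hom Y.hom)
    rw [show m₂ ≫ pullback.fst Y.hom Y.hom = pullback.fst Y.hom X.hom by simp [m₂], Over.w φ]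
    exact (IsPullback.of_hasPullback Y.hom X.hom)
  have hq : IsQuotientMap (m₁ ≫ m₂) := by
    rw [Scheme.Hom.comp_base, TopCat.coe_comp]
    exact (h.subm _ _ _ q₂).comp (h.subm _ _ _ q₁)
  rw [range_psi_id a φ h (m₁ ≫ m₂) (by simp [m₁, m₂]) (by simp [m₁, m₂]), hq.isClosed_preimage]
  constructor
  · intro hs
    haveI := hs
    exact (Limits.pullback.diagonal Y.hom).isClosedEmbedding.isClosed_range
  · intro hc
    refine ⟨?_⟩
    exact IsClosedImmersion.of_isPreimmersion _ hc

/-- Orbits of field valued geometric points under an action with a geometric quotient are closed. -/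
theorem isClosedAction_of_isGeomQuot (a : AlgGrp.Action G X) (φ : X ⟶ Y) (h : GIT.IsGeomQuot a φ) :
    GIT.IsClosedAction a := by
  intro Ω _ _ T eT f
  let sec : T ⟶ Y ⊗ T := lift (f ≫ φ) (𝟙 T)
  -- a section over a field has closed image
  have hclosed : IsClosed (Set.range sec.left) := by
    haveI hT : Subsingleton ↥T.left := (Scheme.homeoOfIso eT).toEquiv.subsingleton
    have hsec : sec.left ≫ (snd Y T).left = 𝟙 _ := by rw [← Over.comp_left, lift_snd]; rfl
    refine closure_subset_iff_isClosed.1 fun q hq => ?_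
    obtain ⟨A, hA, hqA, -⟩ := exists_isAffineOpen_mem_and_subset (X := (Y ⊗ T).left) (x := q) (U := ⊤) trivial
    change Scheme.Opens (Y ⊗ T).left at A
    obtain ⟨_, hpA, t, rfl⟩ := mem_closure_iff.1 hq A A.2 hqA
    have hsA : Set.range sec.left ⊆ A := by
      rintro _ ⟨t', rfl⟩
      rw [Subsingleton.elim t' t]; exact hpA
    haveI : IsAffine A.toScheme := hA
    haveI : IsAffine T.left := IsAffine.of_isIso eT.hom
    let s' : T.left ⟶ A.toScheme := IsOpenImmersion.lift A.ι sec.left (by rwa [Scheme.Opens.range_ι])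
    have hs' : s' ≫ A.ι = sec.left := IsOpenImmersion.lift_fac _ _ _
    haveI : IsClosedImmersion (s' ≫ A.ι ≫ (snd Y T).left) := by rw [reassoc_of% hs', hsec]; infer_instance
    haveI : IsClosedImmersion s' := IsClosedImmersion.of_comp s' (A.ι ≫ (snd Y T).left)
    obtain ⟨t', ht'⟩ : (⟨q, hqA⟩ : ↥A) ∈ Set.range s' := by
      refine s'.isClosedEmbedding.isClosed_range.closure_subset ?_
      rw [IsInducing.subtypeVal.closure_eq_preimage_closure_image]
      refine closure_mono ?_ hq
      rintro _ ⟨t'', rfl⟩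
      exact ⟨s' t'', ⟨t'', rfl⟩, congrArg (fun k => k t'') hs'⟩
    exact ⟨t', (congrArg (fun k => k t') hs').symm.trans (congrArg Subtype.val ht')⟩
  let ν : X ⊗ T ⟶ Y ⊗ T := φ ▷ T
  suffices e : Set.range (GIT.psi a f).left = ν.left ⁻¹' Set.range sec.left by
    exact e ▸ hclosed.preimage ν.left.continuous
  apply subset_antisymm
  · rintro _ ⟨z, rfl⟩
    refine ⟨(snd G T).left z, ?_⟩
    have e : snd G T ≫ sec = GIT.psi a f ≫ ν := by
      apply CartesianMonoidalCategory.hom_ext
      · simp only [sec, ν, GIT.psi, Category.assoc, lift_fst, whiskerRight_fst]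
        rw [lift_fst_assoc, Category.assoc, h.inv, whiskerLeft_snd_assoc]
      · simp [sec, ν, GIT.psi]
    rw [← Scheme.Hom.comp_apply, ← Scheme.Hom.comp_apply, ← Over.comp_left, ← Over.comp_left, e]
  · rintro p ⟨t, ht⟩
    obtain ⟨w, hw₁, -⟩ := Scheme.Pullback.exists_preimage_pullback p t ht.symm
    let P := pullback ν.left sec.left
    have hν₁ : ν.left ≫ (fst Y T).left = (fst X T).left ≫ φ.left := by
      rw [← Over.comp_left, ← Over.comp_left, whiskerRight_fst]
    have hν₂ : ν.left ≫ (snd Y T).left = (snd X T).left := by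
      rw [← Over.comp_left, whiskerRight_snd]
    have hs₁ : sec.left ≫ (fst Y T).left = f.left ≫ φ.left := by
      rw [← Over.comp_left, ← Over.comp_left, lift_fst]
    have hs₂ : sec.left ≫ (snd Y T).left = 𝟙 _ := by rw [← Over.comp_left, lift_snd]; rfl
    let l : P ⟶ pullback φ.left φ.left :=
      pullback.lift (pullback.fst _ _ ≫ (fst X T).left) (pullback.snd _ _ ≫ f.left) (by
        rw [Category.assoc, Category.assoc, ← hν₁, ← hs₁, Limits.pullback.condition_assoc])
    obtain ⟨gx, hgx⟩ := h.orbit (l w)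
    obtain ⟨v, -, hv⟩ := Scheme.Pullback.exists_preimage_pullback gx w hgx
    let Q := pullback (GIT.PsiY a φ h.inv) l
    let Qo : Over S := Over.mk ((pullback.fst (GIT.PsiY a φ h.inv) l) ≫ (G ⊗ X).hom)
    let qg : Qo ⟶ G ⊗ X := Over.homMk (pullback.fst _ _) rfl
    have hl₁ : pullback.fst (GIT.PsiY a φ h.inv) l ≫ a.act.left = pullback.snd _ _ ≫ pullback.fst _ _ ≫ (fst X T).left := by
      rw [show a.act.left = GIT.PsiY a φ h.inv ≫ pullback.fst _ _ from (Limits.pullback.lift_fst _ _ _).symm,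
        Limits.pullback.condition_assoc, Limits.pullback.lift_fst]
    have hl₂ : pullback.fst (GIT.PsiY a φ h.inv) l ≫ (snd G X).left = pullback.snd _ _ ≫ pullback.snd _ _ ≫ f.left := by
      rw [show (snd G X).left = GIT.PsiY a φ h.inv ≫ pullback.snd _ _ from (Limits.pullback.lift_snd _ _ _).symm,
        Limits.pullback.condition_assoc, Limits.pullback.lift_snd]
    let qt : Qo ⟶ T := Over.homMk (pullback.snd _ _ ≫ pullback.snd _ _) (by
      show _ = pullback.fst (GIT.PsiY a φ h.inv) l ≫ (G ⊗ X).hom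
      rw [← Over.w (snd G X), reassoc_of% hl₂, Over.w f, Category.assoc])
    let u : Qo ⟶ G ⊗ T := lift (qg ≫ fst G X) qt
    have hqt : qt ≫ f = qg ≫ snd G X := Over.OverMorphism.ext (by
      simp only [qt, qg, Over.comp_left, Over.homMk_left, Category.assoc]
      exact hl₂.symm)
    have hu : u ≫ (G ◁ f) = qg := by
      apply CartesianMonoidalCategory.hom_ext <;> simp [u, hqt]
    have key : (u ≫ GIT.psi a f).left = pullback.snd (GIT.PsiY a φ h.inv) l ≫ pullback.fst _ _ := by
      apply Limits.pullback.hom_ext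
      · rw [show pullback.fst X.hom T.hom = (fst X T).left from rfl, ← Over.comp_left, Category.assoc,
          GIT.psi, lift_fst, reassoc_of% hu, Category.assoc]
        simp only [qg, Over.comp_left, Over.homMk_left]
        exact hl₁
      · rw [show pullback.snd X.hom T.hom = (snd X T).left from rfl, ← Over.comp_left, Category.assoc,
          GIT.psi, lift_snd, Category.assoc, ← hν₂, Limits.pullback.condition_assoc, hs₂, Category.comp_id]
        simp [u, qt]
    refine ⟨u.left v, ?_⟩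
    rw [← Scheme.Hom.comp_apply, ← Over.comp_left, key, Scheme.Hom.comp_apply]
    exact (congrArg _ hv).trans hw₁

end Groth.Agent.GitQuot
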