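import Groth.Agent.GrpQuotLib.Sheaf
import Groth.Agent.GrpQuotLib.Orbit
import Groth.Agent.GeomQuotLib.Descent
import Groth.Prelude.Def_W4bk4git07Quot
/-!
Fppf quotients by group schemes are geometric quotients.
-/

set_option autoImplicit false
set_option backward.isDefEq.respectTransparency false
set_option backward.isDefEq.respectTransparency.types false

universe u

open CategoryTheory CategoryTheory.Limits MonoidalCategory CartesianMonoidalCategory MonObj AlgebraicGeometry Opposite Topology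

namespace Groth.Agent.GitFppf

variable {S : Scheme.{u}} {G X Y : Over S} [GrpObj G]

/-- Flat and locally of finite presentation. -/
abbrev FL : MorphismProperty Scheme.{u} := @Flat ⊓ @LocallyOfFinitePresentation

theorem flat_lfp_isMultiplicative : (FL).IsMultiplicative :=
  { id_mem := fun X => ⟨(inferInstance : Flat (𝟙 X)), (inferInstance : LocallyOfFinitePresentation (𝟙 X))⟩
    comp_mem := fun f g ⟨hf, hf'⟩ ⟨hg, hg'⟩ => by
      haveI : Flat f := hf
      haveI : LocallyOfFinitePresentation f := hf'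
      haveI : Flat g := hg
      haveI : LocallyOfFinitePresentation g := hg'
      exact ⟨(inferInstance : Flat (f ≫ g)), (inferInstance : LocallyOfFinitePresentation (f ≫ g))⟩ }

/-- Sections exist after a faithfully flat base change. -/
theorem exists_cover {T M : Scheme.{u}} (π : M ⟶ T) (h : ∀ y : T, ∃ (W : Scheme.{u}) (c : W ⟶ T) (l : W ⟶ M),
      FL c ∧ y ∈ Set.range c ∧ l ≫ π = c) :
    ∃ (W : Scheme.{u}) (c : W ⟶ T) (l : W ⟶ M), Flat c ∧ LocallyOfFinitePresentation c ∧ Surjective c ∧ l ≫ π = c := by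
  choose W c l hc hy hl using h
  refine ⟨∐ W, Sigma.desc c, Sigma.desc l, IsZariskiLocalAtSource.sigmaDesc fun y => (hc y).1,
    IsZariskiLocalAtSource.sigmaDesc fun y => (hc y).2, ⟨fun y => ?_⟩, Sigma.hom_ext _ _ fun y => by
      rw [Sigma.ι_desc_assoc, Sigma.ι_desc, hl]⟩
  obtain ⟨w, hw⟩ := hy y
  exact ⟨Sigma.ι W y w, by rw [← Scheme.Hom.comp_apply, Sigma.ι_desc]; exact hw⟩

theorem orbit_equivalence (a : AlgGrp.Action G X) (T : Over S) :
    Equivalence (fun x y : T ⟶ X => ∃ r : T ⟶ G ⊗ X, r ≫ a.act = x ∧ r ≫ snd G X = y) := by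
  refine ⟨fun x => ⟨lift 1 x, GrpQuotLib.one_smul a x, lift_snd _ _⟩, fun {x y} ⟨r, h1, h2⟩ => ?_,
    fun {x y z} ⟨r, h1, h2⟩ ⟨r', h1', h2'⟩ => ?_⟩
  · have e : r = lift (r ≫ fst G X) (r ≫ snd G X) := by
      apply CartesianMonoidalCategory.hom_ext <;> simp
    refine ⟨lift (r ≫ fst G X)⁻¹ x, ?_, lift_snd _ _⟩
    rw [← h1, e, h2]
    simp only [lift_fst]
    rw [← GrpQuotLib.mul_smul, inv_mul_cancel, GrpQuotLib.one_smul]
  · have e : r = lift (r ≫ fst G X) y := by
      apply CartesianMonoidalCategory.hom_ext <;> simp [h2]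
    have e' : r' = lift (r' ≫ fst G X) z := by
      apply CartesianMonoidalCategory.hom_ext <;> simp [h2']
    refine ⟨lift ((r ≫ fst G X) * (r' ≫ fst G X)) z, ?_, lift_snd _ _⟩
    rw [GrpQuotLib.mul_smul, ← e', h1', ← e, h1]

variable (a : AlgGrp.Action G X) {q : X ⟶ Y} (hq : QuotSh.IsQuotient Scheme.fppfPrecoverage a.act (snd G X) q)

include hq in
/-- Points with equal images lie in one orbit fppf locally. -/
theorem exists_orbit_cover {T : Over S} (x₁ x₂ : T ⟶ X) (h : x₁ ≫ q = x₂ ≫ q) :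
    ∃ (W : Over S) (c : W ⟶ T) (r : W ⟶ G ⊗ X), Flat c.left ∧ LocallyOfFinitePresentation c.left ∧
      Surjective c.left ∧ r ≫ a.act = c ≫ x₁ ∧ r ≫ snd G X = c ≫ x₂ := by
  haveI := flat_lfp_isMultiplicative.{u}
  obtain ⟨w, hiso⟩ := hq
  let K : Precoverage Scheme.{u} := Scheme.fppfPrecoverage
  let J := QuotSh.J K S
  let rs := (_root_.AlgSp.pyon S).map a.act
  let rt := (_root_.AlgSp.pyon S).map (snd G X)
  let G' := presheafToSheaf J (Type (u + 1))
  let d : coequalizer rs rt ⟶ (_root_.AlgSp.pyon S).obj Y := coequalizer.desc ((_root_.AlgSp.pyon S).map q) (by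
    rw [← Functor.map_comp, ← Functor.map_comp, w])
  let c := PreservesCoequalizer.iso G' rs rt
  haveI : IsIso (G'.map d) := by
    have e : c.hom ≫ G'.map d = QuotSh.quotDesc K q w := by
      refine coequalizer.hom_ext ?_
      have h1 : coequalizer.π (G'.map rs) (G'.map rt) ≫ c.hom = G'.map (coequalizer.π rs rt) :=
        ((Iso.comp_inv_eq c).1 (map_π_preserves_coequalizer_inv G' rs rt)).symm
      refine Eq.trans ?_ (coequalizer.π_desc _ _).symm
      rw [← Category.assoc]
      exact (congrArg (· ≫ G'.map d) h1).trans ((G'.map_comp _ _).symm.trans (congrArg G'.map (coequalizer.π_desc _ _)))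
    rw [← Iso.inv_hom_id_assoc c (G'.map d), e]
    infer_instance
  haveI : Presheaf.IsLocallyInjective J d :=
    (Presheaf.isLocallyInjective_presheafToSheaf_map_iff J d).1 inferInstance
  let π := coequalizer.π rs rt
  have hπd : ∀ x : T ⟶ X, d.app (op T) (π.app (op T) ⟨x⟩) = ⟨x ≫ q⟩ := fun x =>
    congrArg (fun φ : (_root_.AlgSp.pyon S).obj X ⟶ (_root_.AlgSp.pyon S).obj Y => φ.app (op T) ⟨x⟩)
      (coequalizer.π_desc _ _)
  have hcov := Presheaf.equalizerSieve_mem J d (π.app (op T) ⟨x₁⟩) (π.app (op T) ⟨x₂⟩)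
    (by rw [hπd, hπd, h])
  rw [GrothendieckTopology.mem_over_iff] at hcov
  change _ ∈ (Scheme.precoverage FL).toGrothendieck T.left at hcov
  haveI : (Scheme.precoverage FL).HasIsos := inferInstance
  rw [Precoverage.mem_toGrothendieck_iff_of_isStableUnderComposition] at hcov
  obtain ⟨R₀, hR₀, hle⟩ := hcov
  have key : ∀ y : T.left, ∃ (W : Over S) (c : W ⟶ T) (r : W ⟶ G ⊗ X), FL c.left ∧ y ∈ Set.range c.left ∧
      r ≫ a.act = c ≫ x₁ ∧ r ≫ snd G X = c ≫ x₂ := fun y => by
    obtain ⟨W₀, k, hk, hy⟩ : ∃ (W₀ : Scheme.{u}) (k : W₀ ⟶ T.left), R₀ k ∧ y ∈ Set.range k := by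
      obtain ⟨_, _, ⟨hk⟩, hY⟩ := hR₀.1 y
      exact ⟨_, _, hk, hY⟩
    obtain ⟨Z, α, β, hZ, hβ⟩ := hle _ _ hk
    let W : Over S := Over.mk (β ≫ Z.hom)
    let c : W ⟶ T := Over.homMk β rfl ≫ α
    have hc : c.left = k := hβ.symm
    have hW : π.app (op W) ⟨c ≫ x₁⟩ = π.app (op W) ⟨c ≫ x₂⟩ := by
      have e1 : ∀ {V' V : Over S} (g : V' ⟶ V) (x : V ⟶ X),
          π.app (op V') ⟨g ≫ x⟩ = (coequalizer rs rt).map g.op (π.app (op V) ⟨x⟩) := fun g x =>
        congrArg (fun k => k ⟨x⟩) (π.naturality g.op)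
      rw [e1, e1]
      have hZ' : (coequalizer rs rt).map α.op (π.app (op T) ⟨x₁⟩) = (coequalizer rs rt).map α.op (π.app (op T) ⟨x₂⟩) := hZ
      simp only [c, op_comp, Functor.map_comp, ConcreteCategory.comp_apply, hZ']
    let Setd : Setoid (W ⟶ X) := ⟨_, orbit_equivalence a W⟩
    let hcc := isColimitCoforkMapOfIsColimit ((evaluation _ _).obj (op W)) (coequalizer.condition rs rt)
      (coequalizerIsCoequalizer rs rt)
    let qq : ((_root_.AlgSp.pyon S).obj X).obj (op W) ⟶ ULift.{u + 1} (Quotient Setd) :=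
      ↾fun b => (⟨Quotient.mk Setd (b : ULift.{u + 1} (W ⟶ X)).down⟩ : ULift.{u + 1} (Quotient Setd))
    have hqq : ((evaluation _ _).obj (op W)).map rs ≫ qq = ((evaluation _ _).obj (op W)).map rt ≫ qq := by
      ext r
      exact Quotient.sound (s := Setd) (a := r.down ≫ a.act) (b := r.down ≫ snd G X) ⟨r.down, rfl, rfl⟩
    obtain ⟨dd, hdd⟩ := Cofork.IsColimit.desc' hcc qq hqq
    have e : qq ⟨c ≫ x₁⟩ = qq ⟨c ≫ x₂⟩ := by
      rw [← hdd]
      exact congrArg (fun z => dd z) hW
    obtain ⟨r, hr1, hr2⟩ := Quotient.exact (congrArg ULift.down e)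
    exact ⟨W, c, r, by rw [hc]; exact hR₀.2 hk, by rw [hc]; exact hy, hr1, hr2⟩
  choose W c r hc hy hr1 hr2 using key
  let W' : Over S := Over.mk (Sigma.desc fun y => (W y).hom)
  let jW : ∀ y, W y ⟶ W' := fun y => Over.homMk (Sigma.ι (fun y => (W y).left) y) (by simp [W'])
  let C : W' ⟶ T := Over.homMk (Sigma.desc fun y => (c y).left) (Sigma.hom_ext _ _ fun y => by
    rw [Sigma.ι_desc_assoc, Over.w]; simp [W'])
  let R : W' ⟶ G ⊗ X := Over.homMk (Sigma.desc fun y => (r y).left) (Sigma.hom_ext _ _ fun y => by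
    rw [Sigma.ι_desc_assoc, Over.w]; simp [W'])
  refine ⟨W', C, R, IsZariskiLocalAtSource.sigmaDesc fun y => (hc y).1,
    IsZariskiLocalAtSource.sigmaDesc fun y => (hc y).2, ⟨fun y => ?_⟩, ?_, ?_⟩
  · obtain ⟨z, hz⟩ := hy y
    exact ⟨Sigma.ι (fun y => (W y).left) y z, by
      show Limits.Sigma.desc (fun y => (c y).left) (Sigma.ι (fun y => (W y).left) y z) = y
      rw [← Scheme.Hom.comp_apply, Sigma.ι_desc]; exact hz⟩
  · refine Over.OverMorphism.ext (Sigma.hom_ext _ _ fun y => ?_)
    simp only [R, C, Over.comp_left, Over.homMk_left, Sigma.ι_desc_assoc]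
    exact congrArg CommaMorphism.left (hr1 y)
  · refine Over.OverMorphism.ext (Sigma.hom_ext _ _ fun y => ?_)
    simp only [R, C, Over.comp_left, Over.homMk_left, Sigma.ι_desc_assoc]
    exact congrArg CommaMorphism.left (hr2 y)

include hq in
/-- An fppf quotient has sections fppf locally. -/
theorem exists_section_cover :
    ∃ (W : Scheme.{u}) (c : W ⟶ Y.left) (l : W ⟶ X.left), Flat c ∧ LocallyOfFinitePresentation c ∧ Surjective c ∧
      l ≫ q.left = c := by
  haveI := flat_lfp_isMultiplicative.{u}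
  obtain ⟨w, hiso⟩ := hq
  have he : Epi (QuotSh.repMap (Scheme.precoverage FL) q) := by
    rw [show QuotSh.repMap (Scheme.precoverage FL) q =
      QuotSh.quotπ Scheme.fppfPrecoverage a.act (snd G X) ≫ QuotSh.quotDesc _ q w from (coequalizer.π_desc _ _).symm]
    haveI : Epi (QuotSh.quotπ Scheme.fppfPrecoverage a.act (snd G X)) := inferInstanceAs (Epi (coequalizer.π _ _))
    infer_instance
  refine exists_cover q.left fun y => ?_
  obtain ⟨W, c, l, hc, hy, hl⟩ := GrpQuotLib.exists_lift_of_epi_repMap q he y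
  exact ⟨W.left, c.left, l.left, hc, hy, by rw [← Over.comp_left, hl]⟩

theorem bijective_appLE {A B : Scheme.{u}} (g : A ⟶ B) [IsOpenImmersion g] {U : B.Opens} (hU : U ≤ g.opensRange)
    {V : A.Opens} (hV : V = g ⁻¹ᵁ U) : Function.Bijective (g.appLE U V hV.le) := by
  subst hV
  haveI := g.isIso_app U hU
  rw [← Scheme.Hom.app_eq_appLE]
  exact ConcreteCategory.bijective_of_isIso (g.app U)

theorem appTop_eq {A B : Scheme.{u}} (f : A ⟶ B) : f.appTop = f.appLE ⊤ ⊤ le_rfl := Scheme.Hom.app_eq_appLE f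

theorem appLE_congr {A B : Scheme.{u}} {f g : A ⟶ B} (h : f = g) {U : B.Opens} {V : A.Opens}
    (e : V ≤ f ⁻¹ᵁ U) (e' : V ≤ g ⁻¹ᵁ U) : f.appLE U V e = g.appLE U V e' := by
  subst h; rfl

include hq in
theorem isGeomQuot : GIT.IsGeomQuot a q := by
  obtain ⟨W₀, C₀, L₀, hf, hlf, hs, hL₀⟩ := exists_section_cover a hq
  haveI := hf
  haveI := hlf
  haveI := hs
  have hinv : GIT.IsInvariant a q := hq.choose
  have hsurj : Function.Surjective q.left := fun y => by
    obtain ⟨w, rfl⟩ := C₀.surjective y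
    exact ⟨L₀ w, by rw [← Scheme.Hom.comp_apply, hL₀]⟩
  haveI : Surjective q.left := ⟨hsurj⟩
  refine ⟨hinv, hsurj, fun z => ?_, fun X₁ Y₁ i₁ i₂ f hsq => ?_, fun U => ?_⟩
  · let T : Over S := Over.mk ((pullback q.left q.left).fromSpecResidueField z ≫ pullback.fst _ _ ≫ X.hom)
    let x₁ : T ⟶ X := Over.homMk ((pullback q.left q.left).fromSpecResidueField z ≫ pullback.fst _ _) (Category.assoc _ _ _)
    let x₂ : T ⟶ X := Over.homMk ((pullback q.left q.left).fromSpecResidueField z ≫ pullback.snd _ _) (by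
      show _ = (pullback q.left q.left).fromSpecResidueField z ≫ pullback.fst _ _ ≫ X.hom
      rw [Category.assoc, ← Over.w q, pullback.condition_assoc])
    obtain ⟨W, c, r, _, _, hcs, h1, h2⟩ := exists_orbit_cover a hq x₁ x₂ (Over.OverMorphism.ext (by
      simp [x₁, x₂, pullback.condition]))
    obtain ⟨w, hw⟩ := hcs.surj (default : ↥(Spec ((pullback q.left q.left).residueField z)))
    refine ⟨r.left w, ?_⟩
    have e : r.left ≫ GIT.PsiY a q hinv = c.left ≫ (pullback q.left q.left).fromSpecResidueField z := by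
      apply pullback.hom_ext
      · rw [GIT.PsiY, Category.assoc, pullback.lift_fst, ← Over.comp_left, h1]; simp [x₁]
      · rw [GIT.PsiY, Category.assoc, pullback.lift_snd, ← Over.comp_left, h2]; simp [x₂]
    rw [← Scheme.Hom.comp_apply, e, Scheme.Hom.comp_apply]
    exact Scheme.fromSpecResidueField_apply _ _
  · let C₁ := pullback.fst i₂ C₀
    haveI : UniversallyOpen C₁ := inferInstance
    have hC₁ : IsQuotientMap C₁ := IsOpenMap.isQuotientMap C₁.isOpenMap C₁.continuous C₁.surjective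
    obtain ⟨l, hl₁, -⟩ := hsq.exists_lift C₁ (pullback.snd i₂ C₀ ≫ L₀)
      (by rw [Category.assoc, hL₀, pullback.condition])
    refine IsQuotientMap.of_comp l.continuous f.continuous ?_
    have : (f : X₁ → Y₁) ∘ l = C₁ := funext fun x => by
      show f (l x) = C₁ x
      rw [← Scheme.Hom.comp_apply, hl₁]
    rw [this]
    exact hC₁
  · let O := q.left ⁻¹ᵁ U
    let φU := q.left ∣_ U
    have hO : Function.Bijective (O.ι.appLE O ⊤ (Scheme.Opens.ι_preimage_self O).ge) :=
      bijective_appLE O.ι (by rw [Scheme.Opens.opensRange_ι]) (Scheme.Opens.ι_preimage_self O).symm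
    have hU : Function.Bijective (U.ι.appLE U ⊤ (Scheme.Opens.ι_preimage_self U).ge) :=
      bijective_appLE U.ι (by rw [Scheme.Opens.opensRange_ι]) (Scheme.Opens.ι_preimage_self U).symm
    have hcomm : ∀ s, φU.appTop (U.ι.appLE U ⊤ (Scheme.Opens.ι_preimage_self U).ge s) =
        O.ι.appLE O ⊤ (Scheme.Opens.ι_preimage_self O).ge (q.left.app U s) := fun s => by
      rw [appTop_eq, Scheme.Hom.app_eq_appLE, ← CommRingCat.comp_apply,
        ← CommRingCat.comp_apply, Scheme.Hom.appLE_comp_appLE, Scheme.Hom.appLE_comp_appLE]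
      exact congr($(appLE_congr (morphismRestrict_ι q.left U) _ _) s)
    let C := pullback.snd C₀ U.ι
    obtain ⟨L, hL, -⟩ := (isPullback_morphismRestrict q.left U).exists_lift C (pullback.fst C₀ U.ι ≫ L₀)
      (by rw [Category.assoc, hL₀, pullback.condition])
    obtain ⟨hCinj, hCdesc⟩ := GeomQuotLib.app_descent C
    refine ⟨fun s₁ s₂ hs => hU.1 (hCinj (by
      rw [← hL, Scheme.Hom.comp_appTop, CommRingCat.comp_apply, CommRingCat.comp_apply, hcomm, hcomm, hs])), ?_⟩
    ext f
    constructor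
    · rintro ⟨s, rfl⟩
      show a.act.left.appLE O _ _ (q.left.app U s) = (snd G X).left.appLE O _ _ (q.left.app U s)
      rw [Scheme.Hom.app_eq_appLE, ← CommRingCat.comp_apply, ← CommRingCat.comp_apply, Scheme.Hom.appLE_comp_appLE,
        Scheme.Hom.appLE_comp_appLE]
      exact congr($(appLE_congr hinv.left _ _) s)
    · intro (hf : GIT.IsInvSection a q U f)
      let fO := O.ι.appLE O ⊤ (Scheme.Opens.ι_preimage_self O).ge f
      -- pullbacks of an invariant function along maps with the same image agree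
      have key : ∀ (Z : Scheme.{u}) (g₁ g₂ : Z ⟶ O.toScheme), g₁ ≫ φU = g₂ ≫ φU → g₁.appTop fO = g₂.appTop fO := by
        intro Z g₁ g₂ he
        let T : Over S := Over.mk (g₁ ≫ O.ι ≫ X.hom)
        let x₁ : T ⟶ X := Over.homMk (g₁ ≫ O.ι) (Category.assoc _ _ _)
        have hcomp : (g₁ ≫ O.ι) ≫ q.left = (g₂ ≫ O.ι) ≫ q.left := by
          rw [Category.assoc, Category.assoc, ← morphismRestrict_ι, reassoc_of% he]
        let x₂ : T ⟶ X := Over.homMk (g₂ ≫ O.ι) (by
          show _ = g₁ ≫ O.ι ≫ X.hom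
          rw [← Over.w q, ← Category.assoc (g₂ ≫ O.ι), ← hcomp]; simp)
        obtain ⟨W, c, r, _, _, hcs, h1, h2⟩ := exists_orbit_cover a hq x₁ x₂ (Over.OverMorphism.ext hcomp)
        apply (GeomQuotLib.app_descent c.left).1
        have h1' : r.left ≫ a.act.left = (c.left ≫ g₁) ≫ O.ι := by
          rw [← Over.comp_left, h1, Category.assoc]; rfl
        have h2' : r.left ≫ (snd G X).left = (c.left ≫ g₂) ≫ O.ι := by
          rw [← Over.comp_left, h2, Category.assoc]; rfl
        let P := a.act.left ⁻¹ᵁ O ⊓ (snd G X).left ⁻¹ᵁ O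
        have hw : (⊤ : W.left.Opens) ≤ r.left ⁻¹ᵁ P := by
          intro z _
          refine ⟨?_, ?_⟩
          · show a.act.left (r.left z) ∈ O
            rw [← Scheme.Hom.comp_apply, h1']; exact ((c.left ≫ g₁) z).2
          · show (snd G X).left (r.left z) ∈ O
            rw [← Scheme.Hom.comp_apply, h2']; exact ((c.left ≫ g₂) z).2
        have e1 : c.left.appTop (g₁.appTop fO) = r.left.appLE P ⊤ hw (a.act.left.appLE O P inf_le_left f) := by
          show c.left.appTop (g₁.appTop (O.ι.appLE O ⊤ (Scheme.Opens.ι_preimage_self O).ge f)) = _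
          rw [appTop_eq, appTop_eq, ← CommRingCat.comp_apply, ← CommRingCat.comp_apply,
            Scheme.Hom.appLE_comp_appLE, Scheme.Hom.appLE_comp_appLE]
          refine (CommRingCat.comp_apply _ _ _).symm.trans ?_
          rw [Scheme.Hom.appLE_comp_appLE]
          exact congr($(appLE_congr h1'.symm _ _) f)
        have e2 : c.left.appTop (g₂.appTop fO) = r.left.appLE P ⊤ hw ((snd G X).left.appLE O P inf_le_right f) := by
          show c.left.appTop (g₂.appTop (O.ι.appLE O ⊤ (Scheme.Opens.ι_preimage_self O).ge f)) = _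
          rw [appTop_eq, appTop_eq, ← CommRingCat.comp_apply, ← CommRingCat.comp_apply,
            Scheme.Hom.appLE_comp_appLE, Scheme.Hom.appLE_comp_appLE]
          refine (CommRingCat.comp_apply _ _ _).symm.trans ?_
          rw [Scheme.Hom.appLE_comp_appLE]
          exact congr($(appLE_congr h2'.symm _ _) f)
        exact e1.trans ((congrArg _ hf).trans e2.symm)
      obtain ⟨s, hs⟩ := hCdesc (L.appTop fO) fun Z g₁ g₂ he => by
        have h' := key Z (g₁ ≫ L) (g₂ ≫ L) (by rw [Category.assoc, Category.assoc, hL, he])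
        rwa [Scheme.Hom.comp_appTop, Scheme.Hom.comp_appTop, CommRingCat.comp_apply, CommRingCat.comp_apply] at h'
      obtain ⟨s, rfl⟩ := hU.2 s
      refine ⟨s, hO.1 ((GeomQuotLib.app_descent (pullback.fst φU C)).1 ?_)⟩
      rw [← hcomm]
      show (pullback.fst φU C).appTop (φU.appTop _) = (pullback.fst φU C).appTop fO
      rw [key _ (pullback.fst φU C) (pullback.snd φU C ≫ L) (by rw [Category.assoc, hL, pullback.condition])]
      rw [Scheme.Hom.comp_appTop, CommRingCat.comp_apply, ← hs, ← CommRingCat.comp_apply, ← Scheme.Hom.comp_appTop,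
        pullback.condition, Scheme.Hom.comp_appTop, CommRingCat.comp_apply]

end Groth.Agent.GitFppf
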