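import Groth.Agent.GitQuot.Basic
import Groth.Agent.GeomQuotLib.Descent
/-!
Categorical quotients from closed images, and universal categorical quotients.
-/

set_option autoImplicit false
set_option backward.isDefEq.respectTransparency false
set_option backward.isDefEq.respectTransparency.types false

universe u

open CategoryTheory MonoidalCategory CartesianMonoidalCategory MonObj AlgebraicGeometry Topology
open CategoryTheory.Limits (pullback)

namespace Groth.Agent.GitQuot

variable {S : Scheme.{u}} {G X Y : Over S} [GrpObj G]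

theorem subsingleton_opens_of_injective {A B : Scheme.{u}} (f : A ⟶ B) {V : B.Opens}
    (hinj : Function.Injective (f.app V)) (h : f ⁻¹ᵁ V = ⊥) : V = ⊥ := by
  by_contra hV
  obtain ⟨y, hy⟩ : (V : Set ↥B).Nonempty := Set.nonempty_iff_ne_empty.2 fun h' => hV (TopologicalSpace.Opens.ext h')
  haveI : Subsingleton Γ(A, f ⁻¹ᵁ V) := by rw [h]; infer_instance
  haveI : Subsingleton Γ(B, V) := hinj.subsingleton
  haveI : Nontrivial (B.presheaf.stalk y) := inferInstance
  exact zero_ne_one (α := B.presheaf.stalk y)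
    (by rw [← map_one (B.presheaf.germ V y hy).hom, ← map_zero (B.presheaf.germ V y hy).hom,
      Subsingleton.elim (1 : Γ(B, V)) 0])

/-- Invariant functions and closed images of closed invariant sets give a categorical quotient. -/
theorem isCatQuot_of_closed_images (a : AlgGrp.Action G X) (φ : X ⟶ Y) (hi : GIT.IsInvariant a φ)
    (hii : ∀ U : Y.left.Opens,
      Function.Injective (φ.left.app U) ∧ Set.range (φ.left.app U) = {f | GIT.IsInvSection a φ U f})
    (hiii : ∀ W : Set X.left, IsClosed W → a.act.left.base '' ((snd G X).left.base ⁻¹' W) ⊆ W →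
      IsClosed (φ.left.base '' W))
    (hiii' : ∀ (J : Type u) (W : J → Set X.left),
      (∀ i, IsClosed (W i) ∧ a.act.left.base '' ((snd G X).left.base ⁻¹' W i) ⊆ W i) →
      φ.left.base '' (⋂ i, W i) = ⋂ i, φ.left.base '' W i) :
    GIT.IsCatQuot a φ ∧ IsQuotientMap φ.left.base := by
  have hsurj : Function.Surjective φ.left := by
    have hc : IsClosed (Set.range φ.left) := by
      rw [← Set.image_univ]; exact hiii _ isClosed_univ (Set.subset_univ _)
    have hV := subsingleton_opens_of_injective φ.left (V := ⟨(Set.range φ.left)ᶜ, hc.isOpen_compl⟩) (hii _).1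
      (TopologicalSpace.Opens.ext (Set.eq_empty_of_forall_notMem fun x hx => hx ⟨x, rfl⟩))
    exact fun y => by_contra fun hy => (congrArg (fun V : Y.left.Opens => y ∈ V) hV ▸ hy : y ∈ (⊥ : Y.left.Opens))
  haveI : Surjective φ.left := ⟨hsurj⟩
  refine ⟨isCatQuot_of_sections a φ hi hii fun Z ψ hψ => ?_,
    isQuotientMap_iff_isClosed.2 ⟨hsurj, fun C => ⟨fun hC => hC.preimage φ.left.continuous, fun hC => ?_⟩⟩⟩
  · let W : Z.left.affineOpens → Set ↥X.left := fun w => (ψ.left ⁻¹' (w.1 : Set ↥Z.left))ᶜ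
    have hW : ∀ w, IsClosed (W w) ∧ a.act.left.base '' ((snd G X).left.base ⁻¹' W w) ⊆ W w := fun w => by
      refine ⟨(w.1.2.preimage ψ.left.continuous).isClosed_compl, ?_⟩
      rintro _ ⟨z, hz, rfl⟩ hm
      refine hz ?_
      show ψ.left ((snd G X).left z) ∈ w.1
      rw [← Scheme.Hom.comp_apply, ← GIT.IsInvariant.left hψ, Scheme.Hom.comp_apply]
      exact hm
    refine ⟨fun w => ⟨(φ.left '' W w)ᶜ, (hiii _ (hW w).1 (hW w).2).isOpen_compl⟩,
      fun w x hx => by_contra fun h => hx ⟨x, h, rfl⟩, top_unique fun y _ => ?_⟩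
    rw [TopologicalSpace.Opens.mem_iSup]
    by_contra h
    push_neg at h
    have hy : y ∈ ⋂ w, φ.left '' W w := Set.mem_iInter.2 fun w => not_not.1 (h w)
    rw [← hiii' _ W hW] at hy
    obtain ⟨x, hx, -⟩ := hy
    obtain ⟨_, ⟨A, hA, rfl⟩, hxA, -⟩ :=
      Z.left.isBasis_affineOpens.exists_subset_of_mem_open (Set.mem_univ (ψ.left x)) isOpen_univ
    exact Set.mem_iInter.1 hx ⟨A, hA⟩ hxA
  · rw [← Set.image_preimage_eq C hsurj]
    refine hiii _ hC ?_
    rintro _ ⟨z, hz, rfl⟩
    show φ.left (a.act.left z) ∈ C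
    rw [← Scheme.Hom.comp_apply, GIT.IsInvariant.left hi, Scheme.Hom.comp_apply]
    exact hz

/-- The action induced on a base change of an invariant map. -/
theorem exists_action {X' Y' : Over S} (a : AlgGrp.Action G X) {φ : X ⟶ Y} (hinv : GIT.IsInvariant a φ)
    {pr : X' ⟶ X} {φ' : X' ⟶ Y'} {g : Y' ⟶ Y} (sq : IsPullback pr φ' φ g) :
    ∃ a' : AlgGrp.Action G X', a'.act ≫ pr = (G ◁ pr) ≫ a.act ∧ GIT.IsInvariant a' φ' := by
  let act' : G ⊗ X' ⟶ X' := sq.lift ((G ◁ pr) ≫ a.act) (snd G X' ≫ φ') (by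
    rw [Category.assoc, hinv, whiskerLeft_snd_assoc, Category.assoc, sq.w])
  have h1 : act' ≫ pr = (G ◁ pr) ≫ a.act := sq.lift_fst _ _ _
  have h2 : act' ≫ φ' = snd G X' ≫ φ' := sq.lift_snd _ _ _
  refine ⟨⟨act', ?_, ?_⟩, h1, h2⟩
  · apply sq.hom_ext
    · rw [Category.assoc, h1, ← whisker_exchange_assoc, a.one_act, leftUnitor_naturality]
    · rw [Category.assoc, h2, whiskerRight_snd_assoc]
      rw [CartesianMonoidalCategory.leftUnitor_hom]
  · apply sq.hom_ext
    · simp only [Category.assoc, h1]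
      rw [← whisker_exchange_assoc, a.mul_act, associator_naturality_right_assoc]
      simp only [← MonoidalCategory.whiskerLeft_comp_assoc, h1]
    · simp only [Category.assoc, h2]
      simp [h2]

theorem exists_pullback (φ : X ⟶ Y) {T : Scheme.{u}} (g : T ⟶ Y.left) :
    ∃ (X' Y' : Over S) (pr : X' ⟶ X) (φ' : X' ⟶ Y') (g' : Y' ⟶ Y), IsPullback pr φ' φ g' ∧
      ∃ (e : Y'.left = T) (e' : X'.left = pullback φ.left g),
        eqToHom e.symm ≫ g'.left = g ∧ eqToHom e'.symm ≫ pr.left = pullback.fst φ.left g ∧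
        eqToHom e'.symm ≫ φ'.left ≫ eqToHom e = pullback.snd φ.left g := by
  let Y' : Over S := Over.mk (g ≫ Y.hom)
  let X' : Over S := Over.mk (pullback.fst φ.left g ≫ X.hom)
  let g' : Y' ⟶ Y := Over.homMk g rfl
  let pr : X' ⟶ X := Over.homMk (pullback.fst φ.left g) rfl
  let φ' : X' ⟶ Y' := Over.homMk (pullback.snd φ.left g) (by
    show _ ≫ g ≫ Y.hom = pullback.fst φ.left g ≫ X.hom
    rw [← Limits.pullback.condition_assoc, Over.w])
  exact ⟨X', Y', pr, φ', g', IsPullback.of_map (Over.forget S)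
    (Over.OverMorphism.ext Limits.pullback.condition) (IsPullback.of_hasPullback φ.left g), rfl, rfl,
    by simp [g'], by simp [pr], by simp [φ']⟩

/-- Universal categorical quotients are surjective. -/
theorem surjective_of_isUnivCatQuot (a : AlgGrp.Action G X) (φ : X ⟶ Y) (h : GIT.IsUnivCatQuot a φ) :
    Function.Surjective φ.left := by
  intro y
  by_contra hy
  push_neg at hy
  obtain ⟨X', Y', pr, φ', g', sq, e, e', hg, hpr, -⟩ := exists_pullback φ (Y.left.fromSpecResidueField y)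
  obtain ⟨a', ha', hi'⟩ := exists_action a h.1.1 sq
  have hcq := h.2 pr φ' g' trivial sq a' ha' hi'
  haveI hXe : IsEmpty ↥X'.left := ⟨fun z => by
    have h0 := congrArg (fun k : X'.left ⟶ Y.left => k z) (congrArg CommaMorphism.left sq.w)
    simp only [Over.comp_left, Scheme.Hom.comp_apply] at h0
    have hr : g'.left (φ'.left z) ∈ Set.range (Y.left.fromSpecResidueField y) := ⟨eqToHom e (φ'.left z), by
      rw [← hg, ← Scheme.Hom.comp_apply, ← Category.assoc, eqToHom_trans, eqToHom_refl, Category.id_comp]⟩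
    rw [Scheme.range_fromSpecResidueField, Set.mem_singleton_iff, ← h0] at hr
    exact hy _ hr⟩
  haveI : IsEmpty ↥(G ⊗ X').left := Function.isEmpty (snd G X').left
  let Z : Over S := Over.mk (Limits.coprod.desc Y'.hom Y'.hom)
  let i₁ : Y' ⟶ Z := Over.homMk Limits.coprod.inl (Limits.coprod.inl_desc _ _)
  let i₂ : Y' ⟶ Z := Over.homMk Limits.coprod.inr (Limits.coprod.inr_desc _ _)
  haveI : Subsingleton (X' ⟶ Z) := ⟨fun p q => Over.OverMorphism.ext ((isInitialOfIsEmpty (X := X'.left)).hom_ext _ _)⟩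
  haveI : Subsingleton (G ⊗ X' ⟶ Z) := ⟨fun p q => Over.OverMorphism.ext ((isInitialOfIsEmpty (X := (G ⊗ X').left)).hom_ext _ _)⟩
  obtain ⟨χ, -, huniq⟩ := hcq.2 Z (φ' ≫ i₁) (Subsingleton.elim _ _)
  have hi : i₁ = i₂ := (huniq i₁ rfl).trans (huniq i₂ (Subsingleton.elim _ _)).symm
  have t : ↥Y'.left := eqToHom e.symm (IsLocalRing.closedPoint (Y.left.residueField y))
  have := congrArg (fun k : Y' ⟶ Z => k.left t) hi
  simp only [i₁, i₂, Over.homMk_left] at this
  exact Set.disjoint_iff_forall_ne.1 (isCompl_range_inl_inr Y'.left Y'.left).disjoint ⟨t, rfl⟩ ⟨t, rfl⟩ this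

theorem appTop_eq' {A B : Scheme.{u}} (f : A ⟶ B) : f.appTop = f.appLE ⊤ ⊤ le_rfl := Scheme.Hom.app_eq_appLE f

/-- Universal categorical quotients have the invariant functions. -/
theorem sections_of_isUnivCatQuot (a : AlgGrp.Action G X) (φ : X ⟶ Y) (h : GIT.IsUnivCatQuot a φ) (U : Y.left.Opens) :
    Function.Injective (φ.left.app U) ∧ Set.range (φ.left.app U) = {f | GIT.IsInvSection a φ U f} := by
  let O := φ.left ⁻¹ᵁ U
  let φU := φ.left ∣_ U
  let Y' : Over S := Over.mk (U.ι ≫ Y.hom)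
  let X' : Over S := Over.mk (O.ι ≫ X.hom)
  let pr : X' ⟶ X := Over.homMk O.ι rfl
  let g' : Y' ⟶ Y := Over.homMk U.ι rfl
  let φ' : X' ⟶ Y' := Over.homMk φU (by
    show φU ≫ U.ι ≫ Y.hom = O.ι ≫ X.hom
    rw [← Category.assoc, morphismRestrict_ι, Category.assoc, Over.w])
  have sq : IsPullback pr φ' φ g' := IsPullback.of_map (Over.forget S)
    (Over.OverMorphism.ext (morphismRestrict_ι φ.left U).symm) (isPullback_morphismRestrict φ.left U).flip
  obtain ⟨a', ha', hi'⟩ := exists_action a h.1.1 sq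
  have hcq := h.2 pr φ' g' trivial sq a' ha' hi'
  let Z : Over S := Over.mk (pullback.fst (Limits.terminal.from S) (Limits.terminal.from (Spec GeomQuotLib.lineRing)))
  let mkZ : ∀ {T : Over S}, (T.left ⟶ Spec GeomQuotLib.lineRing) → (T ⟶ Z) := fun {T} k =>
    Over.homMk (pullback.lift T.hom k (Limits.terminal.hom_ext _ _)) (Limits.pullback.lift_fst _ _ _)
  have hmkZ : ∀ {T : Over S} (k : T.left ⟶ Spec GeomQuotLib.lineRing),
      (mkZ k).left ≫ pullback.snd _ _ = k := fun k => Limits.pullback.lift_snd _ _ _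
  have hext : ∀ {T : Over S} (p q : T ⟶ Z), p.left ≫ pullback.snd _ _ = q.left ≫ pullback.snd _ _ → p = q :=
    fun p q e => Over.OverMorphism.ext (Limits.pullback.hom_ext ((Over.w p).trans (Over.w q).symm) e)
  have hO : Function.Bijective (O.ι.appLE O ⊤ (Scheme.Opens.ι_preimage_self O).ge) := by
    haveI := O.ι.isIso_app O (Scheme.Opens.opensRange_ι O).ge
    exact (ConcreteCategory.bijective_of_isIso
      ((O.ι.app O) ≫ O.toScheme.presheaf.map (eqToHom (Scheme.Opens.ι_preimage_self O).symm).op))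
  have hU : Function.Bijective (U.ι.appLE U ⊤ (Scheme.Opens.ι_preimage_self U).ge) := by
    haveI := U.ι.isIso_app U (Scheme.Opens.opensRange_ι U).ge
    exact (ConcreteCategory.bijective_of_isIso
      ((U.ι.app U) ≫ U.toScheme.presheaf.map (eqToHom (Scheme.Opens.ι_preimage_self U).symm).op))
  have hcomm : ∀ s, φU.appTop (U.ι.appLE U ⊤ (Scheme.Opens.ι_preimage_self U).ge s) =
      O.ι.appLE O ⊤ (Scheme.Opens.ι_preimage_self O).ge (φ.left.app U s) := fun s => by
    rw [appTop_eq', Scheme.Hom.app_eq_appLE, ← CommRingCat.comp_apply,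
      ← CommRingCat.comp_apply, Scheme.Hom.appLE_comp_appLE, Scheme.Hom.appLE_comp_appLE]
    exact congr($(appLE_congr (morphismRestrict_ι φ.left U) _ _) s)
  refine ⟨fun s₁ s₂ hs => hU.1 ?_, ?_⟩
  · obtain ⟨k₁, hk₁⟩ := GeomQuotLib.exists_val_eq (U.ι.appLE U ⊤ (Scheme.Opens.ι_preimage_self U).ge s₁)
    obtain ⟨k₂, hk₂⟩ := GeomQuotLib.exists_val_eq (U.ι.appLE U ⊤ (Scheme.Opens.ι_preimage_self U).ge s₂)
    rw [← hk₁, ← hk₂]
    have he : φ' ≫ mkZ (T := Y') k₁ = φ' ≫ mkZ (T := Y') k₂ := hext _ _ (by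
      rw [Over.comp_left, Over.comp_left, Category.assoc, Category.assoc, hmkZ, hmkZ]
      refine GeomQuotLib.ext_val ?_
      show GeomQuotLib.val (φU ≫ k₁) = GeomQuotLib.val (φU ≫ k₂)
      rw [GeomQuotLib.val_comp, GeomQuotLib.val_comp, hk₁, hk₂, hcomm, hcomm, hs])
    obtain ⟨χ, -, hu⟩ := hcq.2 Z (φ' ≫ mkZ (T := Y') k₁) (by
      show a'.act ≫ φ' ≫ _ = snd G X' ≫ φ' ≫ _
      rw [← Category.assoc, hi', Category.assoc])
    have := (hu _ rfl).trans (hu (mkZ (T := Y') k₂) he.symm).symm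
    rw [← hmkZ (T := Y') k₁, ← hmkZ (T := Y') k₂, this]
  · ext f
    constructor
    · rintro ⟨s, rfl⟩
      show a.act.left.appLE O _ _ (φ.left.app U s) = (snd G X).left.appLE O _ _ (φ.left.app U s)
      rw [Scheme.Hom.app_eq_appLE, ← CommRingCat.comp_apply, ← CommRingCat.comp_apply, Scheme.Hom.appLE_comp_appLE,
        Scheme.Hom.appLE_comp_appLE]
      exact congr($(appLE_congr h.1.1.left _ _) s)
    · intro (hf : GIT.IsInvSection a φ U f)
      obtain ⟨k, hk⟩ := GeomQuotLib.exists_val_eq (O.ι.appLE O ⊤ (Scheme.Opens.ι_preimage_self O).ge f)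
      have h1' : (G ◁ pr).left ≫ a.act.left = a'.act.left ≫ O.ι := (congrArg CommaMorphism.left ha').symm
      have h2' : (G ◁ pr).left ≫ (snd G X).left = (snd G X').left ≫ O.ι := by
        rw [← Over.comp_left, whiskerLeft_snd]; rfl
      let P := a.act.left ⁻¹ᵁ O ⊓ (snd G X).left ⁻¹ᵁ O
      have hw : (⊤ : (G ⊗ X').left.Opens) ≤ (G ◁ pr).left ⁻¹ᵁ P := by
        intro z _
        refine ⟨?_, ?_⟩
        · show a.act.left ((G ◁ pr).left z) ∈ O
          rw [← Scheme.Hom.comp_apply, h1']; exact (a'.act.left z).2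
        · show (snd G X).left ((G ◁ pr).left z) ∈ O
          rw [← Scheme.Hom.comp_apply, h2']; exact ((snd G X').left z).2
      have hinvk : GIT.IsInvariant a' (mkZ (T := X') k) := hext _ _ (by
        rw [Over.comp_left, Over.comp_left, Category.assoc, Category.assoc, hmkZ]
        refine GeomQuotLib.ext_val ?_
        rw [GeomQuotLib.val_comp, GeomQuotLib.val_comp, hk]
        show a'.act.left.appTop (O.ι.appLE O ⊤ (Scheme.Opens.ι_preimage_self O).ge f) =
          (snd G X').left.appTop (O.ι.appLE O ⊤ (Scheme.Opens.ι_preimage_self O).ge f)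
        have e1 : a'.act.left.appTop (O.ι.appLE O ⊤ (Scheme.Opens.ι_preimage_self O).ge f) =
            (G ◁ pr).left.appLE P ⊤ hw (a.act.left.appLE O P inf_le_left f) := by
          rw [appTop_eq']
          refine (CommRingCat.comp_apply _ _ _).symm.trans (Eq.trans ?_ (CommRingCat.comp_apply _ _ _))
          erw [Scheme.Hom.appLE_comp_appLE, Scheme.Hom.appLE_comp_appLE]
          exact congr($(appLE_congr h1'.symm _ _) f)
        have e2 : (snd G X').left.appTop (O.ι.appLE O ⊤ (Scheme.Opens.ι_preimage_self O).ge f) =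
            (G ◁ pr).left.appLE P ⊤ hw ((snd G X).left.appLE O P inf_le_right f) := by
          rw [appTop_eq']
          refine (CommRingCat.comp_apply _ _ _).symm.trans (Eq.trans ?_ (CommRingCat.comp_apply _ _ _))
          erw [Scheme.Hom.appLE_comp_appLE, Scheme.Hom.appLE_comp_appLE]
          exact congr($(appLE_congr h2'.symm _ _) f)
        exact e1.trans ((congrArg _ hf).trans e2.symm))
      obtain ⟨χ, hχ, -⟩ := hcq.2 Z _ hinvk
      obtain ⟨s, hs⟩ := hU.2 (GeomQuotLib.val (χ.left ≫ pullback.snd _ _))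
      refine ⟨s, hO.1 ?_⟩
      have e3 : φU ≫ χ.left ≫ pullback.snd _ _ = k := by
        have := congrArg (fun q : X' ⟶ Z => q.left ≫ pullback.snd _ _) hχ
        simp only [Over.comp_left, Category.assoc] at this
        exact this.trans (hmkZ (T := X') k)
      rw [← hcomm, hs, ← hk]
      exact (GeomQuotLib.val_comp _ _).symm.trans (congrArg GeomQuotLib.val e3)

theorem isUnivCatQuot_baseChange (a : AlgGrp.Action G X) (φ : X ⟶ Y) (h : GIT.IsUnivCatQuot a φ)
    {X' Y' : Over S} {pr : X' ⟶ X} {φ' : X' ⟶ Y'} {g : Y' ⟶ Y} (sq : IsPullback pr φ' φ g)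
    (a' : AlgGrp.Action G X') (ha : a'.act ≫ pr = (G ◁ pr) ≫ a.act) (hi : GIT.IsInvariant a' φ') :
    GIT.IsUnivCatQuot a' φ' :=
  ⟨h.2 pr φ' g trivial sq a' ha hi, fun _ _ pr' φ'' g' _ sq' a'' ha' hi' =>
    h.2 (pr' ≫ pr) φ'' (g' ≫ g) trivial (sq'.paste_horiz sq) a''
      (by rw [reassoc_of% ha', ha, MonoidalCategory.whiskerLeft_comp_assoc]) hi'⟩

theorem surjective_psiY_baseChange (a : AlgGrp.Action G X) (φ : X ⟶ Y) (hinv : GIT.IsInvariant a φ)
    (ho : Function.Surjective (GIT.PsiY a φ hinv).base)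
    {X' Y' : Over S} {pr : X' ⟶ X} {φ' : X' ⟶ Y'} {g : Y' ⟶ Y} (sq : IsPullback pr φ' φ g)
    (a' : AlgGrp.Action G X') (ha : a'.act ≫ pr = (G ◁ pr) ≫ a.act) (hi : GIT.IsInvariant a' φ') :
    Function.Surjective (GIT.PsiY a' φ' hi).base := by
  intro z
  let P := pullback φ'.left φ'.left
  have hsq : φ'.left ≫ g.left = pr.left ≫ φ.left := by rw [← Over.comp_left, ← Over.comp_left, sq.w]
  let l : P ⟶ pullback φ.left φ.left :=
    pullback.lift (pullback.fst _ _ ≫ pr.left) (pullback.snd _ _ ≫ pr.left) (by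
      rw [Category.assoc, Category.assoc, ← hsq, Limits.pullback.condition_assoc])
  obtain ⟨gx, hgx⟩ := ho (l z)
  obtain ⟨v, -, hv⟩ := Scheme.Pullback.exists_preimage_pullback gx z hgx
  let Qo : Over S := Over.mk ((pullback.fst (GIT.PsiY a φ hinv) l) ≫ (G ⊗ X).hom)
  let qg : Qo ⟶ G ⊗ X := Over.homMk (pullback.fst _ _) rfl
  have hl₁ : pullback.fst (GIT.PsiY a φ hinv) l ≫ a.act.left = pullback.snd _ _ ≫ pullback.fst _ _ ≫ pr.left := by
    rw [show a.act.left = GIT.PsiY a φ hinv ≫ pullback.fst _ _ from (Limits.pullback.lift_fst _ _ _).symm,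
      Limits.pullback.condition_assoc, Limits.pullback.lift_fst]
  have hl₂ : pullback.fst (GIT.PsiY a φ hinv) l ≫ (snd G X).left = pullback.snd _ _ ≫ pullback.snd _ _ ≫ pr.left := by
    rw [show (snd G X).left = GIT.PsiY a φ hinv ≫ pullback.snd _ _ from (Limits.pullback.lift_snd _ _ _).symm,
      Limits.pullback.condition_assoc, Limits.pullback.lift_snd]
  let q₂ : Qo ⟶ X' := Over.homMk (pullback.snd _ _ ≫ pullback.snd _ _) (by
    show _ = pullback.fst (GIT.PsiY a φ hinv) l ≫ (G ⊗ X).hom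
    rw [← Over.w (snd G X), reassoc_of% hl₂, Over.w pr, Category.assoc])
  let q₁ : Qo ⟶ X' := Over.homMk (pullback.snd _ _ ≫ pullback.fst _ _) (by
    show _ = pullback.fst (GIT.PsiY a φ hinv) l ≫ (G ⊗ X).hom
    rw [← Over.w a.act, reassoc_of% hl₁, Over.w pr, Category.assoc])
  let u : Qo ⟶ G ⊗ X' := lift (qg ≫ fst G X) q₂
  have hu : u ≫ (G ◁ pr) = qg := by
    apply CartesianMonoidalCategory.hom_ext
    · simp [u]
    · simp only [u, Category.assoc, whiskerLeft_snd, lift_snd_assoc]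
      exact Over.OverMorphism.ext (by simp only [qg, q₂, Over.comp_left, Over.homMk_left, Category.assoc]; exact hl₂.symm)
  have key : u ≫ a'.act = q₁ := by
    apply sq.hom_ext
    · rw [Category.assoc, ha, reassoc_of% hu]
      exact Over.OverMorphism.ext (by simp only [qg, q₁, Over.comp_left, Over.homMk_left, Category.assoc]; exact hl₁)
    · rw [Category.assoc, hi, ← Category.assoc, show u ≫ snd G X' = q₂ by simp [u]]
      exact Over.OverMorphism.ext (by
        simp only [q₁, q₂, Over.comp_left, Over.homMk_left, Category.assoc]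
        rw [Limits.pullback.condition])
  refine ⟨u.left v, ?_⟩
  have e : u.left ≫ GIT.PsiY a' φ' hi = pullback.snd (GIT.PsiY a φ hinv) l := by
    apply Limits.pullback.hom_ext
    · rw [GIT.PsiY, Category.assoc, Limits.pullback.lift_fst, ← Over.comp_left, key]; rfl
    · rw [GIT.PsiY, Category.assoc, Limits.pullback.lift_snd, ← Over.comp_left, show u ≫ snd G X' = q₂ by simp [u]]; rfl
  rw [← Scheme.Hom.comp_apply, e]
  exact hv

/-- The basic properties of universal categorical quotients. -/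
theorem univCatQuot_properties (a : AlgGrp.Action G X) (φ : X ⟶ Y) (h : GIT.IsUnivCatQuot a φ) :
    Function.Surjective φ.left.base ∧
      (∀ U : Y.left.Opens,
        Function.Injective (φ.left.app U) ∧ Set.range (φ.left.app U) = {f | GIT.IsInvSection a φ U f}) ∧
      (GIT.IsUnivGeomQuot a φ ↔
        GIT.IsUnivSubmersive φ.left ∧ Function.Surjective (GIT.PsiY a φ h.1.1).base) := by
  refine ⟨surjective_of_isUnivCatQuot a φ h, sections_of_isUnivCatQuot a φ h, fun hg => ⟨hg.1.subm, hg.1.orbit⟩,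
    fun ⟨hs, ho⟩ => ⟨⟨h.1.1, surjective_of_isUnivCatQuot a φ h, ho, hs, sections_of_isUnivCatQuot a φ h⟩,
      fun X' Y' pr φ' g _ sq a' ha hi => ?_⟩⟩
  have h' := isUnivCatQuot_baseChange a φ h sq a' ha hi
  refine ⟨hi, surjective_of_isUnivCatQuot a' φ' h', surjective_psiY_baseChange a φ h.1.1 ho sq a' ha hi,
    fun X₁ Y₁ i₁ i₂ f hf => ?_, sections_of_isUnivCatQuot a' φ' h'⟩
  exact hs (i₁ ≫ pr.left) (i₂ ≫ g.left) f (hf.paste_vert (sq.map (Over.forget S)).flip)

end Groth.Agent.GitQuot
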